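import Groth.Agent.L29.K.Sub
import Groth.Agent.L29.K.Tr
import Mathlib.Algebra.Homology.DerivedCategory.SingleTriangle
import Mathlib.Algebra.Homology.DerivedCategory.Basic
import Mathlib.Algebra.Homology.HomologicalComplexAbelian
import Mathlib.Algebra.Homology.HomotopyCofiber
import Mathlib.Algebra.Homology.DerivedCategory.HomologySequence
import Mathlib.Algebra.Ring.NegOnePow
import Mathlib.Algebra.BigOperators.Finprod
import Mathlib.Data.Int.Interval

/-!
`K₀` of a class of objects closed under kernels of epimorphisms is `K₀` of the objects of the derived category with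
a bounded model in that class, provided that the morphisms between models are roofs of chain maps.
-/

set_option autoImplicit false
set_option linter.style.haveILetI false
set_option linter.unusedSectionVars false
set_option backward.defeqAttrib.useBackward true
set_option backward.isDefEq.respectTransparency false
set_option backward.isDefEq.respectTransparency.types false

universe w v u

open CategoryTheory CategoryTheory.Limits CategoryTheory.Pretriangulated ZeroObject

noncomputable section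

namespace Groth.L10.K0Euler

variable {C : Type u} [Category.{v} C] [Abelian C] (P : ObjectProperty C) [P.IsClosedUnderIsomorphisms]

/-- the closure properties needed -/
structure Good : Prop where
  zero : ∀ Z : C, IsZero Z → P Z
  biprod : ∀ {X Y : C}, P X → P Y → P (X ⊞ Y)
  ker : ∀ {A B : C} (p : A ⟶ B) [Epi p], P A → P B → P (kernel p)

/-- bounded complexes with terms in `P` -/
def Bd (E : CochainComplex C ℤ) : Prop :=
  (∃ a b : ℤ, ∀ i, (i < a ∨ b < i) → IsZero (E.X i)) ∧ ∀ i, P (E.X i)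

/-- the Euler characteristic -/
def χ (E : CochainComplex C ℤ) : KZero.K0sub P :=
  ∑ᶠ i : ℤ, (i.negOnePow : ℤ) • KZero.clSub P (E.X i)

variable {P} (hP : Good P)

include hP

theorem cl_zero {Z : C} (hZ : IsZero Z) : KZero.clSub P Z = 0 :=
  Groth.L29.KSub.clSub_zero P hZ (hP.zero _ hZ)

theorem cl_iso {X Y : C} (e : X ≅ Y) (h : P X) : KZero.clSub P X = KZero.clSub P Y :=
  Groth.L29.KSub.clSub_iso P e (isZero_zero C) (hP.zero _ (isZero_zero C)) h

theorem finite_supp {f : ℤ → C} (h : ∃ a b : ℤ, ∀ i, (i < a ∨ b < i) → IsZero (f i)) :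
    (Function.support fun i : ℤ => (i.negOnePow : ℤ) • KZero.clSub P (f i)).Finite := by
  obtain ⟨a, b, hab⟩ := h
  refine (Set.finite_Icc a b).subset fun i hi => ?_
  by_contra hc
  rw [Set.mem_Icc] at hc
  exact hi (show (i.negOnePow : ℤ) • KZero.clSub P (f i) = 0 by rw [cl_zero hP (hab i (by omega)), smul_zero])

/-- exact bounded complexes have Euler characteristic zero -/
theorem χ_exact (E : CochainComplex C ℤ) (hE : Bd P E) (hex : ∀ i, E.ExactAt i) : χ P E = 0 := by
  obtain ⟨⟨a, b, hv⟩, hp⟩ := hE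
  let Z : ℤ → C := fun i => kernel (E.d i (i + 1))
  let g : ∀ i, E.X i ⟶ Z (i + 1) := fun i => kernel.lift _ (E.d i (i + 1)) (E.d_comp_d _ _ _)
  have hS : ∀ i, (ShortComplex.mk (kernel.ι (E.d i (i + 1))) (g i) (by ext; simp [g])).ShortExact := by
    intro i
    have h := (HomologicalComplex.exactAt_iff' E i (i + 1) (i + 1 + 1) (by simp) (by simp)).1 (hex (i + 1))
    refine ShortComplex.ShortExact.mk' ?_ inferInstance ?_
    · rw [ShortComplex.exact_iff_exact_up_to_refinements]
      intro A x hx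
      have h2 : x ≫ E.d i (i + 1) = 0 := by
        have := congrArg (· ≫ kernel.ι (E.d (i + 1) (i + 1 + 1))) hx
        simpa [g, Z] using this
      exact ⟨A, 𝟙 A, inferInstance, kernel.lift _ x h2, by simp⟩
    · rw [epi_iff_surjective_up_to_refinements]
      intro A x
      obtain ⟨A', π, hπ, y, hy⟩ := h.exact_up_to_refinements (x ≫ kernel.ι (E.d (i + 1) (i + 1 + 1)))
        (by dsimp [Z] at x ⊢; simp)
      exact ⟨A', π, hπ, y, by ext; simpa [g, Z] using hy⟩
  have hz : ∀ i, (i < a ∨ b < i) → IsZero (Z i) := fun i hi => IsZero.of_mono (kernel.ι _) (hv i hi)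
  have hZ : ∀ (k : ℕ) (i : ℤ), b < i + k → P (Z i) := by
    intro k
    induction k with
    | zero => exact fun i hi => hP.zero _ (hz i (Or.inr (by simpa using hi)))
    | succ k ih =>
      intro i hi
      haveI : Epi (g i) := (hS i).epi_g
      have h1 := hP.ker (g i) (hp i) (ih (i + 1) (by push_cast at hi; omega))
      exact P.prop_of_iso ((kernelIsKernel (g i)).conePointUniqueUpToIso (hS i).fIsKernel) h1
  have hZ' : ∀ i, P (Z i) := fun i => hZ (b - i + 1).toNat i (by omega)
  have key : ∀ i, KZero.clSub P (E.X i) = KZero.clSub P (Z i) + KZero.clSub P (Z (i + 1)) := fun i =>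
    Groth.L29.KSub.clSub_shortExact P (hS i) (hZ' i) (hp i) (hZ' _)
  let h : ℤ → KZero.K0sub P := fun i => (i.negOnePow : ℤ) • KZero.clSub P (Z i)
  have hf : (Function.support h).Finite := finite_supp hP ⟨a, b, hz⟩
  have hf' : (Function.support fun i => h (i + 1)).Finite := by
    refine (hf.preimage ((add_left_injective (1 : ℤ)).injOn)).subset fun i hi => ?_
    exact hi
  calc χ P E = ∑ᶠ i, (h i - h (i + 1)) := finsum_congr fun i => by
        simp only [h, key i, Int.negOnePow_succ, smul_add, Units.val_neg, neg_smul, sub_neg_eq_add]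
    _ = 0 := by
      rw [finsum_sub_distrib hf hf', sub_eq_zero]
      exact (finsum_comp_equiv (Equiv.addRight (1 : ℤ)) (f := h)).symm

theorem bd_cone {E F : CochainComplex C ℤ} (f : E ⟶ F) (hE : Bd P E) (hF : Bd P F) :
    Bd P (CochainComplex.mappingCone f) ∧
      ∀ i : ℤ, KZero.clSub P ((CochainComplex.mappingCone f).X i) =
        KZero.clSub P (E.X (i + 1)) + KZero.clSub P (F.X i) := by
  obtain ⟨⟨a, b, hv⟩, hp⟩ := hE
  obtain ⟨⟨a', b', hv'⟩, hp'⟩ := hF
  let e : ∀ i : ℤ, (CochainComplex.mappingCone f).X i ≅ E.X (i + 1) ⊞ F.X i := fun i =>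
    HomologicalComplex.homotopyCofiber.XIsoBiprod f i (i + 1) rfl
  have hb : ∀ i, P (E.X (i + 1) ⊞ F.X i) := fun i => hP.biprod (hp _) (hp' _)
  refine ⟨⟨⟨min (a - 1) a', max (b - 1) b', fun i hi => ?_⟩, fun i => P.prop_of_iso (e i).symm (hb i)⟩,
    fun i => ?_⟩
  · exact ((biprod_isZero_iff _ _).2 ⟨hv _ (by omega), hv' _ (by omega)⟩).of_iso (e i)
  · rw [cl_iso hP (e i) (P.prop_of_iso (e i).symm (hb i))]
    exact Groth.L29.KSub.clSub_biprod P (hp _) (hp' _) (hb i)

theorem χ_cone {E F : CochainComplex C ℤ} (f : E ⟶ F) (hE : Bd P E) (hF : Bd P F) :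
    χ P (CochainComplex.mappingCone f) = χ P F - χ P E := by
  let hE' : ℤ → KZero.K0sub P := fun i => (i.negOnePow : ℤ) • KZero.clSub P (E.X i)
  let hF' : ℤ → KZero.K0sub P := fun i => (i.negOnePow : ℤ) • KZero.clSub P (F.X i)
  have f1 : (Function.support hF').Finite := finite_supp hP hF.1
  have f0 : (Function.support hE').Finite := finite_supp hP hE.1
  have f2 : (Function.support fun i => hE' (i + 1)).Finite := by
    refine (f0.preimage ((add_left_injective (1 : ℤ)).injOn)).subset fun i hi => ?_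
    exact hi
  calc χ P (CochainComplex.mappingCone f) = ∑ᶠ i, (hF' i - hE' (i + 1)) := finsum_congr fun i => by
        simp only [hE', hF', (bd_cone hP f hE hF).2 i, Int.negOnePow_succ, smul_add, Units.val_neg, neg_smul,
          sub_neg_eq_add]
        exact add_comm _ _
    _ = χ P F - χ P E := by
      rw [finsum_sub_distrib f1 f2]
      exact congrArg (fun t => χ P F - t) (finsum_comp_equiv (Equiv.addRight (1 : ℤ)) (f := hE'))

variable [HasDerivedCategory.{w} C]

/-- quasi-isomorphic bounded complexes have the same Euler characteristic -/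
theorem χ_quasiIso {E F : CochainComplex C ℤ} (f : E ⟶ F) [QuasiIso f] (hE : Bd P E) (hF : Bd P F) :
    χ P E = χ P F := by
  have hex : ∀ i, (CochainComplex.mappingCone f).ExactAt i := fun i => by
    rw [HomologicalComplex.exactAt_iff_isZero_homology]
    have hz : IsZero (DerivedCategory.Q.obj (CochainComplex.mappingCone f)) :=
      (Triangle.isZero₃_iff_isIso₁ _ (DerivedCategory.mappingCone_triangle_distinguished f)).2
        (by dsimp; infer_instance)
    exact IsZero.of_iso ((DerivedCategory.homologyFunctor C i).map_isZero hz)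
      ((DerivedCategory.homologyFunctorFactors C i).app _).symm
  have h := χ_exact hP _ (bd_cone hP f hE hF).1 hex
  rw [χ_cone hP f hE hF, sub_eq_zero] at h
  exact h.symm

variable {Q : ObjectProperty (DerivedCategory C)} [Q.IsClosedUnderIsomorphisms]
  (hQ : ∀ E, Bd P E → Q (DerivedCategory.Q.obj E))
  (hmodel : ∀ K, Q K → ∃ E, Bd P E ∧ Nonempty (DerivedCategory.Q.obj E ≅ K))
  (hroof : ∀ (E F : CochainComplex C ℤ), Bd P E → Bd P F →
    ∀ α : DerivedCategory.Q.obj E ⟶ DerivedCategory.Q.obj F, ∃ (G : CochainComplex C ℤ) (g : G ⟶ E) (h : G ⟶ F),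
      Bd P G ∧ QuasiIso g ∧ DerivedCategory.Q.map g ≫ α = DerivedCategory.Q.map h)

include hroof in
theorem χ_iso {E F : CochainComplex C ℤ} (hE : Bd P E) (hF : Bd P F)
    (e : DerivedCategory.Q.obj E ≅ DerivedCategory.Q.obj F) : χ P E = χ P F := by
  obtain ⟨G, g, h, hG, hg, heq⟩ := hroof E F hE hF e.hom
  haveI := hg
  haveI : QuasiIso h := (DerivedCategory.isIso_Q_map_iff_quasiIso _ _).1 (heq ▸ inferInstance)
  rw [← χ_quasiIso hP g hG hE, χ_quasiIso hP h hG hF]

omit hP in
open Classical in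
/-- the Euler characteristic of an object -/
def χD (P : ObjectProperty C) (K : DerivedCategory C) : KZero.K0sub P :=
  if h : ∃ E, Bd P E ∧ Nonempty (DerivedCategory.Q.obj E ≅ K) then χ P h.choose else 0

include hroof in
theorem χD_eq {K : DerivedCategory C} {E : CochainComplex C ℤ} (hE : Bd P E)
    (e : DerivedCategory.Q.obj E ≅ K) : χD P K = χ P E := by
  have h : ∃ E, Bd P E ∧ Nonempty (DerivedCategory.Q.obj E ≅ K) := ⟨E, hE, ⟨e⟩⟩
  obtain ⟨h1, ⟨e'⟩⟩ := h.choose_spec
  rw [χD, dif_pos h]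
  exact χ_iso hP hroof h1 hE (e' ≪≫ e.symm)

include hmodel hroof in
theorem χD_triangle (T : Triangle (DerivedCategory C)) (hT : T ∈ distTriang _) (h₁ : Q T.obj₁) (h₂ : Q T.obj₂) :
    χD P T.obj₂ = χD P T.obj₁ + χD P T.obj₃ := by
  obtain ⟨E, hE, ⟨e⟩⟩ := hmodel _ h₁
  obtain ⟨F, hF, ⟨e'⟩⟩ := hmodel _ h₂
  obtain ⟨G, g, h, hG, hg, heq⟩ := hroof E F hE hF (e.hom ≫ T.mor₁ ≫ e'.inv)
  haveI := hg
  obtain ⟨e3⟩ : Nonempty (DerivedCategory.Q.obj (CochainComplex.mappingCone h) ≅ T.obj₃) :=
    ⟨Triangle.π₃.mapIso (isoTriangleOfIso₁₂ _ _ (DerivedCategory.mappingCone_triangle_distinguished h) hT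
      (asIso (DerivedCategory.Q.map g) ≪≫ e) e'
      (by
        show DerivedCategory.Q.map h ≫ e'.hom = (DerivedCategory.Q.map g ≫ e.hom) ≫ T.mor₁
        rw [← heq]; simp))⟩
  rw [χD_eq hP hroof hE e, χD_eq hP hroof hF e', χD_eq hP hroof (bd_cone hP h hG hF).1 e3, χ_cone hP h hG hF,
    χ_quasiIso hP g hG hE]
  abel

theorem bd_single {X : C} (hX : P X) (n : ℤ) :
    Bd P ((HomologicalComplex.single C (ComplexShape.up ℤ) n).obj X) := by
  refine ⟨⟨n, n, fun i hi => HomologicalComplex.isZero_single_obj_X _ _ _ _ (by omega)⟩, fun i => ?_⟩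
  by_cases hi : i = n
  · subst hi
    exact P.prop_of_iso (HomologicalComplex.singleObjXSelf (ComplexShape.up ℤ) i X).symm hX
  · exact hP.zero _ (HomologicalComplex.isZero_single_obj_X _ _ _ _ hi)

theorem χ_single {X : C} (hX : P X) : χ P ((HomologicalComplex.single C (ComplexShape.up ℤ) 0).obj X) =
    KZero.clSub P X := by
  rw [χ, finsum_eq_single _ 0 fun i hi => by
    rw [cl_zero hP (HomologicalComplex.isZero_single_obj_X _ _ _ _ hi), smul_zero]]
  rw [Int.negOnePow_zero, Units.val_one, one_smul]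
  exact cl_iso hP (HomologicalComplex.singleObjXSelf (ComplexShape.up ℤ) 0 X) ((bd_single hP hX 0).2 0)

include hQ in
theorem q_single {X : C} (hX : P X) (n : ℤ) : Q ((DerivedCategory.singleFunctor C n).obj X) :=
  Q.prop_of_iso ((DerivedCategory.singleFunctorIsoCompQ C n).app X).symm (hQ _ (bd_single hP hX n))

include hQ in
theorem q_zero (Z : DerivedCategory C) (hZ : IsZero Z) : Q Z :=
  Q.prop_of_iso ((DerivedCategory.Q.map_isZero (isZero_zero _)).iso hZ)
    (hQ 0 ⟨⟨0, 0, fun i _ => (HomologicalComplex.eval C _ i).map_isZero (isZero_zero _)⟩,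
      fun i => hP.zero _ ((HomologicalComplex.eval C _ i).map_isZero (isZero_zero _))⟩)

include hQ in
theorem q_shift (X : DerivedCategory C) (hX : ∃ E, Bd P E ∧ Nonempty (DerivedCategory.Q.obj E ≅ X)) (n : ℤ) :
    Q (X⟦n⟧) := by
  obtain ⟨E, ⟨⟨a, b, hv⟩, hp⟩, ⟨e⟩⟩ := hX
  refine Q.prop_of_iso ((DerivedCategory.Q.commShiftIso n).app E ≪≫ (shiftFunctor _ n).mapIso e) (hQ _ ⟨⟨a - n, b - n,
    fun i hi => ?_⟩, fun i => ?_⟩)
  · exact hv (i + n) (by omega)
  · exact hp (i + n)

/-- `[X] ↦ [X[0]]` -/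
def φ : KZero.K0sub P →+ KZero.K0tr Q :=
  Groth.L29.KSub.lift (fun X => KZero.clTr Q ((DerivedCategory.singleFunctor C 0).obj X)) fun S hS h1 h2 h3 =>
    Groth.L29.KTr.triangle _ hS.singleTriangle_distinguished (q_single hP hQ h1 0) (q_single hP hQ h2 0)
      (q_single hP hQ h3 0)

include hQ hmodel in
theorem cl_Q_mem : ∀ (k : ℕ) (a : ℤ) (E : CochainComplex C ℤ),
    (∀ i, (i < a ∨ a + k ≤ i) → IsZero (E.X i)) → (∀ i, P (E.X i)) →
    KZero.clTr Q (DerivedCategory.Q.obj E) ∈ (φ hP hQ).range := by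
  intro k
  induction k with
  | zero =>
    intro a E hv _
    rw [Groth.L29.KTr.isZero (q_zero hP hQ) (DerivedCategory.Q.map_isZero (by
      rw [IsZero.iff_id_eq_zero]
      ext i : 1
      exact (hv i (by omega)).eq_of_src _ _))]
    exact zero_mem _
  | succ k ih =>
    intro a E hv hp
    let b : ℤ := a + k
    let ι := HomologicalComplex.mkHomFromSingle (K := E) (𝟙 (E.X b))
      (fun j hj => (hv j (by simp at hj; omega)).eq_of_tgt _ _)
    haveI : ∀ i, Mono (ι.f i) := fun i => by
      by_cases hi : i = b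
      · subst hi
        simp [ι]
        infer_instance
      · exact (HomologicalComplex.isZero_single_obj_X _ _ _ _ hi).mono _
    haveI : Mono ι := HomologicalComplex.mono_of_mono_f ι inferInstance
    let S : ShortComplex (CochainComplex C ℤ) := ShortComplex.mk ι (cokernel.π ι) (cokernel.condition ι)
    have hS : S.ShortExact := { exact := S.exact_of_g_is_cokernel (cokernelIsCokernel ι) }
    have hSi : ∀ i, (S.map (HomologicalComplex.eval _ _ i)).ShortExact := fun i =>
      hS.map_of_exact (HomologicalComplex.eval C (ComplexShape.up ℤ) i)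
    have hb : IsZero (S.X₃.X b) := by
      haveI : IsIso (ι.f b) := by simp [ι]; infer_instance
      haveI := (hSi b).epi_g
      exact IsZero.of_epi_eq_zero _ ((cancel_epi (ι.f b)).1
        (((S.map (HomologicalComplex.eval _ _ b)).zero).trans comp_zero.symm) :
          (S.map (HomologicalComplex.eval _ _ b)).g = 0)
    have hne : ∀ i, i ≠ b → IsIso (S.g.f i) := fun i hi => by
      haveI : Mono (S.g.f i) := (hSi i).exact.mono_g
        ((HomologicalComplex.isZero_single_obj_X (ComplexShape.up ℤ) b (E.X b) i hi).eq_of_src _ _)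
      haveI : Epi (S.g.f i) := (hSi i).epi_g
      exact isIso_of_mono_of_epi _
    have hv3 : ∀ i, (i < a ∨ a + k ≤ i) → IsZero (S.X₃.X i) := fun i hi => by
      by_cases hib : i = b
      · exact hib ▸ hb
      · haveI := hne i hib
        exact (hv i (by push_cast; omega)).of_iso (asIso (S.g.f i)).symm
    have hp3 : ∀ i, P (S.X₃.X i) := fun i => by
      by_cases hib : i = b
      · exact hP.zero _ (hib ▸ hb)
      · haveI := hne i hib
        exact P.prop_of_iso (asIso (S.g.f i)) (hp i)
    have h1 : Q (DerivedCategory.Q.obj S.X₁) := hQ _ (bd_single hP (hp b) b)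
    have h2 : Q (DerivedCategory.Q.obj S.X₂) := hQ _ ⟨⟨a, a + k, fun i hi => hv i (by push_cast; omega)⟩, hp⟩
    have h3 : Q (DerivedCategory.Q.obj S.X₃) := hQ _ ⟨⟨a, a + k, fun i hi => hv3 i (by omega)⟩, hp3⟩
    have key := Groth.L29.KTr.triangle _ (DerivedCategory.triangleOfSES_distinguished hS) h1 h2 h3
    change KZero.clTr Q (DerivedCategory.Q.obj E) = _ at key
    rw [key]
    refine add_mem ?_ (ih a _ hv3 hp3)
    have e : (DerivedCategory.Q.obj S.X₁) ≅ ((DerivedCategory.singleFunctor C 0).obj (E.X b))⟦-b⟧ :=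
      ((DerivedCategory.singleFunctorIsoCompQ C b).app (E.X b)).symm ≪≫
        (((DerivedCategory.singleFunctors C).shiftIso (-b) b 0 (by omega)).app (E.X b)).symm
    have h0 := q_single hP hQ (hp b) 0
    change KZero.clTr Q (DerivedCategory.Q.obj S.X₁) ∈ _
    rw [Groth.L29.KTr.iso (q_zero hP hQ) e h1 (Q.prop_of_iso e h1)]
    refine Groth.L29.KTr.shift_mem (q_zero hP hQ) (fun X n hX => q_shift hP hQ X (hmodel X hX) n) _ h0 ?_ _
    exact ⟨KZero.clSub P (E.X b), by rw [φ]; exact Groth.L29.KSub.lift_clSub _ _ (hp b)⟩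

include hQ hmodel hroof in
/-- `K₀(P) ≅ K₀(Q)` -/
theorem exists_equiv : ∃ e : KZero.K0sub P ≃+ KZero.K0tr Q, ∀ X : C, P X →
    e (KZero.clSub P X) = KZero.clTr Q ((DerivedCategory.singleFunctor C 0).obj X) := by
  let ψ : KZero.K0tr Q →+ KZero.K0sub P :=
    QuotientAddGroup.lift _ (FreeAbelianGroup.lift fun K : Subtype Q => χD P K.1) <| by
      rw [KZero.relTr, AddSubgroup.closure_le]
      rintro _ ⟨T, h₁, h₂, h₃, hT, rfl⟩
      simp only [SetLike.mem_coe, AddMonoidHom.mem_ker, map_sub, FreeAbelianGroup.lift_apply_of]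
      rw [χD_triangle hP hmodel hroof T hT h₁ h₂]
      abel
  have hφ : ∀ X, P X → φ hP hQ (KZero.clSub P X) =
      KZero.clTr Q ((DerivedCategory.singleFunctor C 0).obj X) := fun X hX => by
    rw [φ]; exact Groth.L29.KSub.lift_clSub _ _ hX
  have hψ : ψ.comp (φ hP hQ) = AddMonoidHom.id _ := Groth.L29.KSub.hom_ext fun X hX => by
    rw [AddMonoidHom.comp_apply, hφ X hX, KZero.clTr, dif_pos (q_single hP hQ hX 0)]
    refine (FreeAbelianGroup.lift_apply_of _ _).trans ?_
    rw [χD_eq hP hroof (bd_single hP hX 0) ((DerivedCategory.singleFunctorIsoCompQ C 0).app X).symm,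
      χ_single hP hX, AddMonoidHom.id_apply]
  refine ⟨AddEquiv.ofBijective (φ hP hQ) ⟨fun x y h => ?_, fun y => ?_⟩, fun X hX => ?_⟩
  · have := congrArg ψ h
    rwa [← AddMonoidHom.comp_apply, ← AddMonoidHom.comp_apply, hψ] at this
  · obtain ⟨z, rfl⟩ := QuotientAddGroup.mk_surjective y
    refine AddMonoidHom.mem_range.1 ?_
    induction z using FreeAbelianGroup.induction_on with
    | zero => exact zero_mem _
    | of K =>
      obtain ⟨E, ⟨⟨a, b, hv⟩, hp⟩, ⟨e⟩⟩ := hmodel _ K.2
      have h1 := cl_Q_mem hP hQ hmodel (b - a + 1).toNat a E (fun i hi => hv i (by omega)) hp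
      rw [Groth.L29.KTr.iso (q_zero hP hQ) e (hQ E ⟨⟨a, b, hv⟩, hp⟩) K.2] at h1
      rwa [KZero.clTr, dif_pos K.2] at h1
    | neg K hK => exact neg_mem hK
    | add x y hx hy => exact add_mem hx hy
  · rw [AddEquiv.ofBijective_apply]
    exact hφ X hX

end Groth.L10.K0Euler
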